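import Cfsg.Agent.QTUnique.Base
import Cfsg.Agent.QTKE.Rows
import Cfsg.Prelude.Def_LieTypeChar
import Mathlib.GroupTheory.SpecificGroups.Alternating
import Cfsg.Agent.LieClassical.SmallIso
import Cfsg.Agent.S0252
import Cfsg.Agent.S0253
import Cfsg.Agent.S0254
import Cfsg.Agent.S1007
import Cfsg.Agent.QTUnique.SmallRank
import Cfsg.Agent.QTUnique.LFourThree
import Cfsg.Agent.QTUnique.MTwelve
import Cfsg.Agent.QTUnique.JTwo
import Cfsg.Agent.QTUnique.HS
import Cfsg.Agent.QTUnique.He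
import Cfsg.Agent.QTUnique.Ru
import Cfsg.Agent.StrongEmb.Strong
import Cfsg.Agent.TwoGenCore.IsoMEleven
import Cfsg.Agent.S0483
import Cfsg.Agent.S0507

-- merged: Cfsg.Agent.QTUnique.Main
section

/-!
# S1819 from its inputs (helper12)

* `St1765` : the statement S1765;
* `Spor'` : the sporadic and small rows `NotUnique`;
* `main` : the literal S1819.

`G` is a simple QTKE-group with a Sylow 2-subgroup `T` in a unique maximal 2-local subgroup `M`.  If `G` is of
characteristic 2 type, then `SmallRank.charTwo_unique`: `M` is strongly embedded (Bender's theorem), or the Sylow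
2-subgroups are dihedral or quasi-dihedral (S0483, S0507 and the rows of S1816).  Otherwise S1765 applies, and the rows of
S1816 leave `L₄(3)`, `A₉`, `M₁₂`, `J₂`, `HS`, `He` and `Ru`, where `T` lies in several maximal 2-local subgroups.
-/

set_option autoImplicit false

namespace Cfsg.Agent.QTUnique

open Subgroup Cfsg
open Cfsg.Agent.QTKE (PSL Row NE Rows)

universe u

/-- The conclusion of S1819. -/
def Concl (G : Type u) [Group G] : Prop :=
  Cfsg.IsBenderGroup G ∨
      (∃ (F : Type) (_ : Field F) (_ : Fintype F), Cfsg.IsTwoPowerNeighbourPrime (Fintype.card F) ∧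
          7 < Fintype.card F ∧ Nonempty (G ≃* Matrix.ProjectiveSpecialLinearGroup (Fin 2) F)) ∨
      (∃ (F : Type) (_ : Field F) (_ : Fintype F), Fintype.card F = 3 ∧
          Nonempty (G ≃* Matrix.ProjectiveSpecialLinearGroup (Fin 3) F)) ∨
      Cfsg.Spor.IsoM11 G

/-- The statement S1765. -/
def St1765 : Prop :=
  ∀ (G : Type u) [Group G] [Finite G] [IsSimpleGroup G], ¬ IsMulCommutative G → Cfsg.IsKProper G →
    ¬ Cfsg.IsCharacteristicTwoType G →
    ((∃ p : ℕ, p.Prime ∧ p ≠ 2 ∧ Cfsg.IsLieTypeChar p G) ∧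
        ¬ (∃ (F : Type) (_ : Field F) (_ : Fintype F), ((Fintype.card F).Prime ∧ ((∃ k : ℕ, Fintype.card F + 1 = 2 ^ k) ∨ (∃ k : ℕ, Fintype.card F = 2 ^ k + 1)) ∨ Fintype.card F = 9) ∧
          Nonempty (G ≃* Matrix.ProjectiveSpecialLinearGroup (Fin 2) F)) ∧
        ¬ (∃ (F : Type) (_ : Field F) (_ : Fintype F), Fintype.card F = 3 ∧
          (Nonempty (G ≃* Matrix.ProjectiveSpecialLinearGroup (Fin 3) F) ∨ Nonempty (G ≃* Cfsg.PSp 2 F) ∨
            Nonempty (G ≃* ↥(Cfsg.Lie.chevG2.group F)))) ∧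
        ¬ (∃ (F : Type) (_ : Field F) (_ : Fintype F), Fintype.card F = 9 ∧ (Nonempty (G ≃* Cfsg.PSU 3 F 3) ∨ Nonempty (G ≃* Cfsg.PSU 4 F 3)))) ∨
      (∃ n : ℕ, (n = 7 ∨ 9 ≤ n) ∧ Nonempty (G ≃* ↥(alternatingGroup (Fin n)))) ∨
      Cfsg.Spor.IsoM12 G ∨ Cfsg.Spor.IsoJ1 G ∨ Cfsg.Spor.IsoJ2 G ∨ Cfsg.Spor.IsoMcL G ∨ Cfsg.Spor.IsoLy G ∨ Cfsg.Spor.IsoHS G ∨ Cfsg.Spor.IsoHe G ∨ Cfsg.Spor.IsoON G ∨ Cfsg.Spor.IsoSuz G ∨ Cfsg.Spor.IsoRu G ∨ Cfsg.Spor.IsoCo3 G ∨ Cfsg.Spor.IsoCo1 G ∨ Cfsg.Spor.IsoFi22 G ∨ Cfsg.Spor.IsoFi23 G ∨ Cfsg.Spor.IsoFi24' G ∨ Cfsg.Spor.IsoHN G ∨ Cfsg.Spor.IsoB G ∨ Cfsg.Spor.IsoM G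

/-- The quoted theorems. -/
structure Inputs : Prop where
  /-- S1765 -/
  s1765 : St1765.{u}
  /-- `SmallRank.charTwo_unique` -/
  uniq : ∀ (G : Type u) [Group G] [Finite G] [IsSimpleGroup G], ¬ IsMulCommutative G → IsCharacteristicTwoType G →
    ∀ (S : Sylow 2 G) (M : Subgroup G), maxTwoLocalsContaining (S : Subgroup G) = {M} → IsStronglyEmbedded M ∨
      ∃ S1 : Sylow 2 G, (∃ n, 2 ≤ n ∧ Nonempty ((S1 : Subgroup G) ≃* DihedralGroup n)) ∨
        IsQuasiDihedral (S1 : Subgroup G)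
  /-- Bender's theorem -/
  emb : ∀ (G : Type u) [Group G] [Finite G] [IsSimpleGroup G], ¬ IsMulCommutative G →
    ∀ H : Subgroup G, IsStronglyEmbedded H → IsBenderGroup G
  /-- S0483 -/
  dihedral : ∀ (G : Type u) [Group G] [Finite G] [IsSimpleGroup G], ¬ IsMulCommutative G →
    ∀ (S : Sylow 2 G) (n : ℕ), 2 ≤ n → Nonempty ((S : Subgroup G) ≃* DihedralGroup n) →
      (∃ (F : Type) (_ : Field F) (_ : Fintype F), Odd (Fintype.card F) ∧ 3 < Fintype.card F ∧
        Nonempty (G ≃* Matrix.ProjectiveSpecialLinearGroup (Fin 2) F)) ∨ Nonempty (G ≃* alternatingGroup (Fin 7))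
  /-- S0507 -/
  quasi : ∀ (G : Type u) [Group G] [Finite G] [IsSimpleGroup G] (S : Sylow 2 G), IsQuasiDihedral (S : Subgroup G) →
    (∃ (F : Type) (_ : Field F) (_ : Fintype F), Fintype.card F % 4 = 3 ∧
        Nonempty (G ≃* Matrix.ProjectiveSpecialLinearGroup (Fin 3) F)) ∨
      (∃ (F : Type) (_ : Field F) (_ : Fintype F) (q : ℕ), Fintype.card F = q ^ 2 ∧ q % 4 = 1 ∧
        Nonempty (G ≃* Cfsg.PSU 3 F q)) ∨ Spor.IsoM11 G
  /-- `L₂(5) ≅ L₂(4)` -/
  five : ∀ (G : Type u) [Group G] (F : Type) [Field F] [Fintype F], Fintype.card F = 5 → Nonempty (G ≃* PSL 2 F) →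
    IsBenderGroup G

/-- A row: the groups `G` with `P G` satisfy `NotUnique`. -/
def SRow (P : ∀ (G : Type u) [Group G], Prop) : Prop :=
  ∀ (G : Type u) [Group G] [Finite G] [IsSimpleGroup G], ¬ IsMulCommutative G → P G → NotUnique G

/-- The rows `NotUnique`. -/
structure NURows : Prop where
  l27 : ∀ (F : Type) [Field F] [Fintype F], Fintype.card F = 7 → Row (PSL 2 F) (NotUnique (PSL 2 F))
  l29 : ∀ (F : Type) [Field F] [Fintype F], Fintype.card F = 9 → NotUnique (PSL 2 F)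
  a9 : NotUnique (alternatingGroup (Fin 9))
  l43 : ∀ (F : Type) [Field F] [Fintype F], Fintype.card F = 3 → NotUnique (PSL 4 F)
  m12 : SRow.{u} fun G _ => Spor.IsoM12 G
  j2 : SRow.{u} fun G _ => Spor.IsoJ2 G
  hs : SRow.{u} fun G _ => Spor.IsoHS G
  he : SRow.{u} fun G _ => Spor.IsoHe G
  ru : SRow.{u} fun G _ => Spor.IsoRu G

section

variable {G : Type u} [Group G] [Finite G] [IsSimpleGroup G]

/-- A row applied to a group with a unique maximal 2-local over a Sylow 2-subgroup. -/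
theorem NotUnique.false {X : Type} [Group X] [Finite X] (h : NotUnique X) (e : G ≃* X) {T : Sylow 2 G} {M : Subgroup G}
    (hM : maxTwoLocalsContaining (T : Subgroup G) = {M}) : False :=
  (h.congr e.symm) T M hM

/-- `PSL 2 F`, `F` of odd order, of even characteristic, with a unique maximal 2-local. -/
theorem concl_psl2 (I : Inputs.{u}) (R : Rows) (N : NURows.{u}) (hG : ¬ IsMulCommutative G) (hE : IsOfEvenCharacteristic G)
    {T : Sylow 2 G} {M : Subgroup G} (hM : maxTwoLocalsContaining (T : Subgroup G) = {M})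
    {F : Type} [i1 : Field F] [i2 : Fintype F] (hF : Odd (Fintype.card F)) (hF3 : 3 < Fintype.card F)
    (e : G ≃* PSL 2 F) : Concl G := by
  have : Finite (PSL 2 F) := Finite.of_equiv G e.toEquiv
  by_cases hp : IsTwoPowerNeighbourPrime (Fintype.card F)
  · by_cases h7 : 7 < Fintype.card F
    · exact Or.inr (Or.inl ⟨F, i1, i2, hp, h7, ⟨e⟩⟩)
    · have h57 : Fintype.card F = 5 ∨ Fintype.card F = 7 := by
        obtain ⟨k, hk⟩ := hF
        omega
      rcases h57 with h5 | h7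
      · exact Or.inl (I.five G F h5 ⟨e⟩)
      · exact (((N.l27 F h7).apply hG e).false e hM).elim
  by_cases h9 : Fintype.card F = 9
  · exact ((N.l29 F h9).false e hM).elim
  · exact ((R.psl2 F hF hF3 hp h9).oddCore hG e hE).elim

/-- **S1819, characteristic 2 type.** -/
theorem concl_charTwo (I : Inputs.{u}) (R : Rows) (N : NURows.{u}) (hG : ¬ IsMulCommutative G) (hE : IsOfEvenCharacteristic G)
    (hc : IsCharacteristicTwoType G)
    {T : Sylow 2 G} {M : Subgroup G} (hM : maxTwoLocalsContaining (T : Subgroup G) = {M}) : Concl G := by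
  have h2 : Fact (Nat.Prime 2) := ⟨Nat.prime_two⟩
  rcases I.uniq G hG hc T M hM with h | ⟨S, ⟨n, hn, hS⟩ | hS⟩
  · exact Or.inl (I.emb G hG M h)
  · rcases I.dihedral G hG S n hn hS with ⟨F, i1, i2, hF, hF3, ⟨e⟩⟩ | ⟨⟨e⟩⟩
    · exact concl_psl2 I R N hG hE hM hF hF3 e
    · exact (R.a7.oddCore hG e hE).elim
  · rcases I.quasi G S hS with ⟨F, i1, i2, hF, ⟨e⟩⟩ | ⟨F, i1, i2, q, hF, hq, ⟨e⟩⟩ | h
    · by_cases h3 : Fintype.card F = 3
      · exact Or.inr (Or.inr (Or.inl ⟨F, i1, i2, h3, ⟨e⟩⟩))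
      · exact ((R.psl3 F (by rw [Nat.odd_iff]; omega) (by omega)).ne hG e hE).elim
    · have hq1 : q ≠ 1 := by
        rintro rfl
        have : 1 < Fintype.card F := Fintype.one_lt_card
        omega
      exact ((R.psu3odd F q hF (by rw [Nat.odd_iff]; omega) (by omega)).ne hG e hE).elim
    · exact Or.inr (Or.inr (Or.inr h))

/-- A field of odd characteristic has odd order. -/
theorem odd_card {p : ℕ} (hp : p.Prime) (hp2 : p ≠ 2) {F : Type} [Field F] [Fintype F] [CharP F p] :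
    Odd (Fintype.card F) := by
  obtain ⟨n, -, hn⟩ := FiniteField.card F p
  rw [hn]
  exact (hp.odd_of_ne_two hp2).pow

theorem odd_of_pow {q k : ℕ} (h : Odd (q ^ k)) (hk : k ≠ 0) : Odd q := (Nat.odd_pow_iff hk).1 h

/-- **S1819, groups of Lie type of odd characteristic not of characteristic 2 type.** -/
theorem concl_lieOdd (R : Rows) (N : NURows.{u}) (hG : ¬ IsMulCommutative G) (hQ : IsQuasithin G)
    (hE : IsOfEvenCharacteristic G) {T : Sylow 2 G} {M : Subgroup G}
    (hM : maxTwoLocalsContaining (T : Subgroup G) = {M}) {p : ℕ} (hp : p.Prime) (hp2 : p ≠ 2) (hL : IsLieTypeChar p G)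
    (h1 : ¬ (∃ (F : Type) (_ : Field F) (_ : Fintype F), ((Fintype.card F).Prime ∧ ((∃ k : ℕ, Fintype.card F + 1 = 2 ^ k) ∨ (∃ k : ℕ, Fintype.card F = 2 ^ k + 1)) ∨ Fintype.card F = 9) ∧
          Nonempty (G ≃* Matrix.ProjectiveSpecialLinearGroup (Fin 2) F)))
    (h2 : ¬ (∃ (F : Type) (_ : Field F) (_ : Fintype F), Fintype.card F = 3 ∧
          (Nonempty (G ≃* Matrix.ProjectiveSpecialLinearGroup (Fin 3) F) ∨ Nonempty (G ≃* Cfsg.PSp 2 F) ∨
            Nonempty (G ≃* ↥(Cfsg.Lie.chevG2.group F)))))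
    (h3 : ¬ (∃ (F : Type) (_ : Field F) (_ : Fintype F), Fintype.card F = 9 ∧ (Nonempty (G ≃* Cfsg.PSU 3 F 3) ∨ Nonempty (G ≃* Cfsg.PSU 4 F 3)))) :
    False := by
  have three_le : ∀ {F : Type} [Field F] [Fintype F], Odd (Fintype.card F) → 3 ≤ Fintype.card F := by
    intro F _ _ hF
    have hc2 : 1 < Fintype.card F := Fintype.one_lt_card
    obtain ⟨k, hk⟩ := hF
    omega
  rcases hL with h | h | h | h | h | h | h | h | ⟨h, -⟩ | ⟨h, -⟩ | ⟨-, h⟩
  · obtain ⟨F, i1, i2, i3, n, hn, hn2, ⟨e⟩⟩ := h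
    have hF : Odd (Fintype.card F) := odd_card hp hp2
    have hF3 := three_le hF
    obtain rfl | rfl | rfl | rfl | hn6 : n = 2 ∨ n = 3 ∨ n = 4 ∨ n = 5 ∨ 6 ≤ n := by omega
    · have h4 := hn2 rfl
      refine (R.psl2 F hF (by omega) ?_ ?_).oddCore hG e hE
      · rintro ⟨hpp, ⟨k, -, hk⟩ | ⟨k, hk⟩⟩
        · exact h1 ⟨F, i1, i2, Or.inl ⟨hpp, Or.inr ⟨k, hk⟩⟩, ⟨e⟩⟩
        · exact h1 ⟨F, i1, i2, Or.inl ⟨hpp, Or.inl ⟨k, hk⟩⟩, ⟨e⟩⟩
      · intro h9
        exact h1 ⟨F, i1, i2, Or.inr h9, ⟨e⟩⟩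
    · by_cases h : Fintype.card F = 3
      · exact h2 ⟨F, i1, i2, h, Or.inl ⟨e⟩⟩
      · exact (R.psl3 F hF (by omega)).ne hG e hE
    · by_cases h : Fintype.card F = 3
      · have : Finite (PSL 4 F) := Finite.of_equiv G e.toEquiv
        exact (N.l43 F h).false e hM
      · exact (R.psl4odd F hF (by omega)).ne hG e hE
    · exact (R.psl5 F hF3).wide hG e hQ
    · exact (R.psl6 F n hn6).wide hG e hQ
  · obtain ⟨F, i1, i2, i3, m, hm, hm2, ⟨e⟩⟩ := h
    have hF : Odd (Fintype.card F) := odd_card hp hp2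
    have hF3 := three_le hF
    obtain rfl | rfl | hm4 : m = 2 ∨ m = 3 ∨ 4 ≤ m := by omega
    · by_cases h : Fintype.card F = 3
      · exact h2 ⟨F, i1, i2, h, Or.inr (Or.inl ⟨e⟩)⟩
      · exact (R.psp2odd F hF (by omega)).ne hG e hE
    · exact (R.psp3 F hF3).wide hG e hQ
    · exact (R.psp4 F m hm4).wide hG e hQ
  · obtain ⟨F, i1, i2, i3, n, q, hFq, hn, -, ⟨e⟩⟩ := h
    have hF : Odd (Fintype.card F) := odd_card hp hp2
    have hq : Odd q := odd_of_pow (hFq ▸ hF) two_ne_zero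
    have hq3 : q = 3 ∨ 3 < q := by
      have hc2 : 1 < Fintype.card F := Fintype.one_lt_card
      have hq1 : q ≠ 1 := by
        rintro rfl
        omega
      obtain ⟨k, hk⟩ := hq
      omega
    obtain rfl | rfl | rfl | hn6 : n = 3 ∨ n = 4 ∨ n = 5 ∨ 6 ≤ n := by omega
    · rcases hq3 with rfl | hq3
      · exact h3 ⟨F, i1, i2, by rw [hFq]; norm_num, Or.inl ⟨e⟩⟩
      · exact (R.psu3odd F q hFq hq hq3).ne hG e hE
    · rcases hq3 with rfl | hq3
      · exact h3 ⟨F, i1, i2, by rw [hFq]; norm_num, Or.inr ⟨e⟩⟩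
      · exact (R.psu4odd F q hFq hq hq3).ne hG e hE
    · exact (R.psu5 F q hFq (by rintro rfl; exact absurd hq (by decide))).wide hG e hQ
    · exact (R.psu6 F n q hFq hn6).wide hG e hQ
  · obtain ⟨F, i1, i2, i3, m, hm, hF, ⟨e⟩⟩ := h
    exact (R.omegaOdd F m hF hm).wide hG e hQ
  · obtain ⟨F, i1, i2, i3, m, hm, ⟨e⟩⟩ := h
    exact (R.omegaPlus F m hm).wide hG e hQ
  · obtain ⟨F, i1, i2, i3, m, a, b, hm, hab, ⟨e⟩⟩ := h
    exact (R.omegaMinus F m a b hm hab).wide hG e hQ
  · obtain ⟨F, i1, i2, i3, h⟩ := h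
    have hF : Odd (Fintype.card F) := odd_card hp hp2
    rcases h with ⟨hF3, ⟨e⟩⟩ | ⟨⟨e⟩⟩ | ⟨⟨e⟩⟩ | ⟨⟨e⟩⟩ | ⟨⟨e⟩⟩
    · by_cases h : Fintype.card F = 3
      · exact h2 ⟨F, i1, i2, h, Or.inr (Or.inr ⟨e⟩)⟩
      · exact (R.g2odd F hF (by omega)).ne hG e hE
    · exact (R.f4 F).wide hG e hQ
    · exact (R.e6 F).wide hG e hQ
    · exact (R.e7 F).wide hG e hQ
    · exact (R.e8 F).wide hG e hQ
  · obtain ⟨K, i1, i2, i3, q, hq, h⟩ := h
    have hF : Odd (Fintype.card K) := odd_card hp hp2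
    rcases h with ⟨hK, ⟨e⟩⟩ | ⟨hK, ⟨e⟩⟩
    · exact (R.twistedE6 K q hq hK).wide hG e hQ
    · exact (R.twistedD4odd K q hq (odd_of_pow (hK ▸ hF) three_ne_zero) hK).wide hG e hQ
  · exact hp2 h
  · exact hp2 h
  · obtain ⟨K, i1, i2, m, hm, hK, ⟨e⟩⟩ := h
    exact (R.ree K m hm hK).wide hG e hQ

/-- **S1819, not of characteristic 2 type.** -/
theorem concl_not_charTwo (I : Inputs.{u}) (R : Rows) (N : NURows.{u}) (hG : ¬ IsMulCommutative G)
    (hQ : IsQuasithin G) (hK : IsKProper G) (hE : IsOfEvenCharacteristic G) (hc : ¬ IsCharacteristicTwoType G)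
    {T : Sylow 2 G} {M : Subgroup G} (hM : maxTwoLocalsContaining (T : Subgroup G) = {M}) : False := by
  rcases I.s1765 G hG hK hc with ⟨⟨p, hp, hp2, hL⟩, h1, h2, h3⟩ | ⟨n, hn, ⟨e⟩⟩ | h
  · exact concl_lieOdd R N hG hQ hE hM hp hp2 hL h1 h2 h3
  · obtain rfl | rfl | hn : n = 7 ∨ n = 9 ∨ 10 ≤ n := by omega
    · exact R.a7.oddCore hG e hE
    · exact N.a9.false e hM
    · exact (R.alt n hn).wide hG e hQ
  · rcases h with ⟨⟨e⟩⟩ | ⟨⟨e⟩⟩ | ⟨⟨e⟩⟩ | ⟨⟨e⟩⟩ | ⟨⟨e⟩⟩ | ⟨⟨e⟩⟩ | ⟨⟨e⟩⟩ | ⟨⟨e⟩⟩ | ⟨⟨e⟩⟩ | ⟨⟨e⟩⟩ | ⟨⟨e⟩⟩ | ⟨⟨e⟩⟩ | ⟨⟨e⟩⟩ |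
      ⟨⟨e⟩⟩ | ⟨⟨e⟩⟩ | ⟨⟨e⟩⟩ | ⟨⟨e⟩⟩ | ⟨⟨e⟩⟩
    · exact N.m12 G hG ⟨e⟩ T M hM
    · exact R.j1.ne hG e hE
    · exact N.j2 G hG ⟨e⟩ T M hM
    · exact R.mcl.ne hG e hE
    · exact R.ly.wide hG e hQ
    · exact N.hs G hG ⟨e⟩ T M hM
    · exact N.he G hG ⟨e⟩ T M hM
    · exact R.on.ne hG e hE
    · exact R.suz.wide hG e hQ
    · exact N.ru G hG ⟨e⟩ T M hM
    · exact R.co3.wide hG e hQ
    · exact R.co1.wide hG e hQ
    · exact R.fi22.wide hG e hQ
    · exact R.fi23.wide hG e hQ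
    · exact R.fi24.wide hG e hQ
    · exact R.hn.wide hG e hQ
    · exact R.b.wide hG e hQ
    · exact R.m.wide hG e hQ

/-- **S1819** from its inputs. -/
theorem concl_of (I : Inputs.{u}) (R : Rows) (N : NURows.{u})
    (hG : ¬ IsMulCommutative G) (hQ : IsQTKE G) (T : Sylow 2 G) (M : Subgroup G)
    (hM : maxTwoLocalsContaining (T : Subgroup G) = {M}) : Concl G := by
  obtain ⟨hQT, hK, hE⟩ := hQ
  by_cases hc : IsCharacteristicTwoType G
  · exact concl_charTwo I R N hG hE hc hM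
  · exact (concl_not_charTwo I R N hG hQT hK hE hc hM).elim

end

end Cfsg.Agent.QTUnique

end

-- merged: Cfsg.Agent.QTUnique.Core
section

/-!
# S1819: the criterion with the core, and the alternating groups of degree 6 and 9 (helper12)

* `notUnique_of_core`: the Sylow 2-subgroup `T` contains no nontrivial subgroup normalized by `L`, and every element of `L`
  normalizes a nontrivial subgroup of `T` normalized by `T`;
* `alt`: the criterion for subgroups of the alternating groups given by their elements.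
-/

set_option autoImplicit false

namespace Cfsg.Agent.QTUnique

open Subgroup Cfsg

section crit

variable {G : Type*} [Group G] [Finite G]

/-- A 2-subgroup normalized by a Sylow 2-subgroup `T` lies in `T`. -/
theorem le_sylow_of_normalized (T : Sylow 2 G) {U : Subgroup G} (hU : IsPGroup 2 U)
    (hn : (T : Subgroup G) ≤ normalizer (U : Set G)) : U ≤ (T : Subgroup G) := by
  have h2 : Fact (Nat.Prime 2) := ⟨Nat.prime_two⟩
  have h1 : IsPGroup 2 ((U ⊔ T : Subgroup G)) := IsPGroup.to_sup_of_normal_left' hU T.isPGroup' hn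
  have h3 := T.is_maximal' h1 le_sup_right
  exact h3 ▸ le_sup_left

/-- **The criterion with the core.** -/
theorem notUnique_of_core (T : Sylow 2 G) (L : Set G)
    (hL : ∀ l ∈ L, ∃ U : Subgroup G, U ≤ (T : Subgroup G) ∧ U ≠ ⊥ ∧ (T : Subgroup G) ≤ normalizer (U : Set G) ∧
      l ∈ normalizer (U : Set G))
    (hcore : ∀ u ∈ (T : Subgroup G), u ≠ 1 → ∃ h ∈ closure L, h * u * h⁻¹ ∉ (T : Subgroup G)) : NotUnique G := by
  refine notUnique_of_sylow T fun M hM => ?_
  obtain ⟨⟨⟨W, hW, hW1, hMW⟩, -⟩, hTM⟩ := unique_mem hM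
  have hWT : W ≤ (T : Subgroup G) := le_sylow_of_normalized T hW (hMW ▸ hTM)
  have hLM : closure L ≤ M := by
    rw [closure_le]
    intro l hl
    obtain ⟨U, hUT, hU1, hTU, hlU⟩ := hL l hl
    exact normalizer_le hM (T.isPGroup'.to_le hUT) hU1 hTU hlU
  obtain ⟨⟨u, huW⟩, hu1⟩ := (ne_bot_iff_exists_ne_one).1 hW1
  obtain ⟨h, hh, hne⟩ := hcore u (hWT huW) fun e => hu1 (Subtype.ext e)
  have h1 : h ∈ normalizer (W : Set G) := hMW ▸ hLM hh
  exact hne (hWT ((mem_normalizer_iff.1 h1 u).1 huW))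

end crit

section sub

variable {H : Type*} [Group H] [Finite H]

theorem mem_normalizer_subgroupOf {A U : Subgroup H} {x : A} (hx : (x : H) ∈ normalizer (U : Set H)) :
    x ∈ normalizer ((U.subgroupOf A : Subgroup A) : Set A) := by
  rw [mem_normalizer_iff] at hx ⊢
  intro y
  exact hx y

/-- **The criterion with the core**, for a subgroup `A` of a group `H`. -/
theorem notUnique_of_core_sub (A P : Subgroup H) (hPA : P ≤ A) (hcard : Nat.card P = 2 ^ (Nat.card A).factorization 2)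
    (L : Set H) (hLA : L ⊆ A)
    (hL : ∀ l ∈ L, ∃ U : Subgroup H, U ≤ P ∧ U ≠ ⊥ ∧ P ≤ normalizer (U : Set H) ∧ l ∈ normalizer (U : Set H))
    (hcore : ∀ u ∈ P, u ≠ 1 → ∃ h ∈ closure L, h * u * h⁻¹ ∉ P) : NotUnique A := by
  have h2 : Fact (Nat.Prime 2) := ⟨Nat.prime_two⟩
  have hc : Nat.card (P.subgroupOf A) = 2 ^ (Nat.card A).factorization 2 := by
    rw [Nat.card_congr (subgroupOfEquivOfLe hPA).toEquiv, hcard]
  set T : Sylow 2 A := Sylow.ofCard (P.subgroupOf A) hc with hT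
  have hTP : (T : Subgroup A) = P.subgroupOf A := rfl
  set L' : Set A := {l | (l : H) ∈ L} with hL'
  have hcl : closure L ≤ (closure L').map A.subtype := by
    rw [closure_le]
    intro l hl
    exact ⟨⟨l, hLA hl⟩, subset_closure hl, rfl⟩
  refine notUnique_of_core T L' ?_ ?_
  · intro l hl
    obtain ⟨U, hUP, hU1, hPU, hlU⟩ := hL l hl
    refine ⟨U.subgroupOf A, ?_, ?_, ?_, mem_normalizer_subgroupOf hlU⟩
    · rw [hTP]
      exact comap_mono hUP
    · intro h0
      rw [subgroupOf_eq_bot, disjoint_iff, inf_eq_left.2 (hUP.trans hPA)] at h0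
      exact hU1 h0
    · rw [hTP]
      intro x hx
      exact mem_normalizer_subgroupOf (hPU (mem_subgroupOf.1 hx))
  · intro u hu hu1
    rw [hTP, mem_subgroupOf] at hu
    obtain ⟨h, hh, hne⟩ := hcore u hu fun e => hu1 (Subtype.ext e)
    obtain ⟨h', hh', rfl⟩ := hcl hh
    refine ⟨h', hh', ?_⟩
    rw [hTP, mem_subgroupOf]
    exact hne

end sub

section gens

variable {G : Type*} [Group G]

/-- A finite set closed under left multiplication by involutions `g k` is the subgroup generated by these. -/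
theorem closure_eq_range {ι κ : Type*} (el : ι → G) (g : κ → G) (f : κ → ι → ι) (hf : ∀ k s, el (f k s) = g k * el s)
    (hg : ∀ k, g k * g k = 1) (i : ι) (hi : el i = 1) (hw : ∀ s, el s ∈ closure (Set.range g)) :
    ((closure (Set.range g) : Subgroup G) : Set G) = Set.range el := by
  apply Set.Subset.antisymm
  · intro x hx
    induction hx using closure_induction_left with
    | one => exact ⟨i, hi⟩
    | mul_left a ha y _ hy =>
      obtain ⟨k, rfl⟩ := ha
      obtain ⟨s, rfl⟩ := hy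
      exact ⟨f k s, hf k s⟩
    | inv_mul_cancel a ha y _ hy =>
      obtain ⟨k, rfl⟩ := ha
      obtain ⟨s, rfl⟩ := hy
      have : (g k)⁻¹ = g k := inv_eq_of_mul_eq_one_left (hg k)
      exact ⟨f k s, by rw [this, hf k s]⟩
  · rintro _ ⟨s, rfl⟩
    exact hw s

theorem card_of_range {ι : Type*} [Fintype ι] (el : ι → G) (hinj : Function.Injective el) {P : Subgroup G}
    (hP : (P : Set G) = Set.range el) : Nat.card P = Fintype.card ι := by
  have h1 : Nat.card P = Nat.card (Set.range el) := by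
    rw [← hP]
    rfl
  rw [h1, Nat.card_congr (Equiv.ofInjective el hinj).symm, Nat.card_eq_fintype_card]

end gens

end Cfsg.Agent.QTUnique

end

-- merged: Cfsg.Agent.QTUnique.AltSixNine
section

/-!
# S1819: the alternating groups of degree 6 and 9 (helper12)
-/

set_option autoImplicit false
set_option maxRecDepth 20000

namespace Cfsg.Agent.QTUnique

open Subgroup Cfsg Equiv

theorem factorization_two {a k m : ℕ} (h : a = 2 ^ k * m) (hm : ¬ 2 ∣ m) (hm0 : m ≠ 0) : a.factorization 2 = k := by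
  rw [h, Nat.factorization_mul (by positivity) hm0, Finsupp.add_apply,
    Nat.prime_two.factorization_pow, Finsupp.single_eq_same,
    Nat.factorization_eq_zero_of_not_dvd hm, add_zero]

/-- An element normalizes the subgroup of the elements `el`, if it permutes them. -/
theorem mem_normalizer_range {G ι : Type*} [Group G] [Finite G] (el : ι → G) {U : Subgroup G}
    (hU : (U : Set G) = Set.range el) {g : G} (f : ι → ι) (hf : ∀ s, g * el s = el (f s) * g) :
    g ∈ normalizer (U : Set G) := by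
  have h1 : U.map (MulAut.conj g).toMonoidHom ≤ U := by
    rintro _ ⟨x, hx, rfl⟩
    have hx' : x ∈ Set.range el := hU ▸ hx
    obtain ⟨s, rfl⟩ := hx'
    have h2 : (MulAut.conj g).toMonoidHom (el s) = el (f s) := by
      show g * el s * g⁻¹ = _
      rw [hf s, mul_inv_cancel_right]
    rw [h2]
    have : el (f s) ∈ (U : Set G) := hU ▸ ⟨f s, rfl⟩
    exact this
  have h2 : U.map (MulAut.conj g).toMonoidHom = U :=
    eq_of_le_of_card_ge h1 (by rw [card_map_of_injective (MulAut.conj g).injective])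
  rw [mem_normalizer_iff]
  intro x
  constructor
  · intro hx
    exact h1 ⟨x, hx, rfl⟩
  · intro hx
    have h3 : g * x * g⁻¹ ∈ U.map (MulAut.conj g).toMonoidHom := by rw [h2]; exact hx
    obtain ⟨w, hw, e⟩ := h3
    have h4 : g * w * g⁻¹ = g * x * g⁻¹ := e
    have h5 : w = x := by
      have := congrArg (fun t => g⁻¹ * t * g) h4
      simpa [mul_assoc] using this
    rw [← h5]
    exact hw

/-! ### degree 9 -/

namespace Nine

/-- generators of the Sylow 2-subgroup -/
def gen (k : Fin 6) : Perm (Fin 9) :=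
  match k with
  | 0 => swap 0 1 * swap 2 3
  | 1 => swap 0 2 * swap 1 3
  | 2 => swap 4 5 * swap 6 7
  | 3 => swap 4 6 * swap 5 7
  | 4 => swap 0 1 * swap 4 5
  | 5 => swap 0 4 * swap 1 5 * swap 2 6 * swap 3 7

abbrev Ix : Type := Bool × Bool × Bool × Bool × Bool × Bool

def pw (b : Bool) (g : Perm (Fin 9)) : Perm (Fin 9) := if b then g else 1

def el (s : Ix) : Perm (Fin 9) :=
  pw s.1 (gen 0) * pw s.2.1 (gen 1) * pw s.2.2.1 (gen 2) * pw s.2.2.2.1 (gen 3) * pw s.2.2.2.2.1 (gen 4) *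
    pw s.2.2.2.2.2 (gen 5)

/-- left multiplication by the generators -/
def lm (k : Fin 6) (s : Ix) : Ix :=
  match k with
  | 0 => (!s.1, s.2.1, s.2.2.1, s.2.2.2.1, s.2.2.2.2.1, s.2.2.2.2.2)
  | 1 => (s.1, !s.2.1, s.2.2.1, s.2.2.2.1, s.2.2.2.2.1, s.2.2.2.2.2)
  | 2 => (s.1, s.2.1, !s.2.2.1, s.2.2.2.1, s.2.2.2.2.1, s.2.2.2.2.2)
  | 3 => (s.1, s.2.1, s.2.2.1, !s.2.2.2.1, s.2.2.2.2.1, s.2.2.2.2.2)
  | 4 => (s.1 ^^ s.2.1, s.2.1, s.2.2.1 ^^ s.2.2.2.1, s.2.2.2.1, !s.2.2.2.2.1, s.2.2.2.2.2)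
  | 5 => (s.2.2.1, s.2.2.2.1, s.1, s.2.1, s.2.2.2.2.1, !s.2.2.2.2.2)

theorem lm_eq : ∀ k s, el (lm k s) = gen k * el s := by decide +kernel

theorem el_inj : Function.Injective el := by
  have : ∀ s t : Ix, (el s 0 = el t 0 ∧ el s 2 = el t 2 ∧ el s 4 = el t 4) → s = t := by decide +kernel
  intro s t h
  exact this s t ⟨by rw [h], by rw [h], by rw [h]⟩

theorem gen_sq : ∀ k, gen k * gen k = 1 := by decide +kernel

theorem gen_even : ∀ k, gen k ∈ alternatingGroup (Fin 9) := by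
  intro k
  rw [Perm.mem_alternatingGroup]
  revert k
  decide +kernel

/-- the Sylow 2-subgroup -/
def P : Subgroup (Perm (Fin 9)) := closure (Set.range gen)

theorem pw_mem {P : Subgroup (Perm (Fin 9))} {g : Perm (Fin 9)} (hg : g ∈ P) (b : Bool) : pw b g ∈ P := by
  cases b
  · exact one_mem _
  · exact hg

theorem gen_mem (k : Fin 6) : gen k ∈ P := subset_closure ⟨k, rfl⟩

theorem el_mem (s : Ix) : el s ∈ P :=
  mul_mem (mul_mem (mul_mem (mul_mem (mul_mem (pw_mem (gen_mem 0) _) (pw_mem (gen_mem 1) _)) (pw_mem (gen_mem 2) _))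
    (pw_mem (gen_mem 3) _)) (pw_mem (gen_mem 4) _)) (pw_mem (gen_mem 5) _)

theorem P_eq : (P : Set (Perm (Fin 9))) = Set.range el :=
  closure_eq_range el gen lm lm_eq gen_sq (false, false, false, false, false, false) rfl el_mem

theorem card_P : Nat.card P = 64 := by
  rw [card_of_range el el_inj P_eq]
  rfl

theorem P_le : P ≤ alternatingGroup (Fin 9) := by
  rw [P, closure_le]
  rintro _ ⟨k, rfl⟩
  exact gen_even k

theorem card_A : Nat.card (alternatingGroup (Fin 9)) = 181440 := by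
  have h := nat_card_alternatingGroup (α := Fin 9)
  rw [h, Nat.card_fin]
  decide +kernel

/-- `V₄ × V₄` -/
def genU (k : Fin 4) : Perm (Fin 9) := gen (k.castLE (by decide))

def elU (s : Bool × Bool × Bool × Bool) : Perm (Fin 9) := el (s.1, s.2.1, s.2.2.1, s.2.2.2, false, false)

def lmU (k : Fin 4) (s : Bool × Bool × Bool × Bool) : Bool × Bool × Bool × Bool :=
  match k with
  | 0 => (!s.1, s.2.1, s.2.2.1, s.2.2.2)
  | 1 => (s.1, !s.2.1, s.2.2.1, s.2.2.2)
  | 2 => (s.1, s.2.1, !s.2.2.1, s.2.2.2)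
  | 3 => (s.1, s.2.1, s.2.2.1, !s.2.2.2)

def U : Subgroup (Perm (Fin 9)) := closure (Set.range genU)

theorem genU_mem (k : Fin 4) : genU k ∈ U := subset_closure ⟨k, rfl⟩

theorem U_eq : (U : Set (Perm (Fin 9))) = Set.range elU := by
  refine closure_eq_range elU genU lmU (by decide +kernel) (by decide +kernel) (false, false, false, false) rfl
    fun s => ?_
  exact mul_mem (mul_mem (mul_mem (mul_mem (mul_mem (pw_mem (genU_mem 0) _) (pw_mem (genU_mem 1) _)) (pw_mem (genU_mem 2) _))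
    (pw_mem (genU_mem 3) _)) (one_mem _)) (one_mem _)

/-- the even products of the transpositions `(0 1), (2 3), (4 5), (6 7)` -/
def genV (k : Fin 3) : Perm (Fin 9) :=
  match k with
  | 0 => swap 0 1 * swap 2 3
  | 1 => swap 4 5 * swap 6 7
  | 2 => swap 0 1 * swap 4 5

def elV (s : Bool × Bool × Bool) : Perm (Fin 9) := pw s.1 (genV 0) * pw s.2.1 (genV 1) * pw s.2.2 (genV 2)

def lmV (k : Fin 3) (s : Bool × Bool × Bool) : Bool × Bool × Bool :=
  match k with
  | 0 => (!s.1, s.2.1, s.2.2)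
  | 1 => (s.1, !s.2.1, s.2.2)
  | 2 => (s.1, s.2.1, !s.2.2)

def V : Subgroup (Perm (Fin 9)) := closure (Set.range genV)

theorem genV_mem (k : Fin 3) : genV k ∈ V := subset_closure ⟨k, rfl⟩

theorem V_eq : (V : Set (Perm (Fin 9))) = Set.range elV := by
  refine closure_eq_range elV genV lmV (by decide +kernel) (by decide +kernel) (false, false, false) rfl
    fun s => ?_
  exact mul_mem (mul_mem (pw_mem (genV_mem 0) _) (pw_mem (genV_mem 1) _)) (pw_mem (genV_mem 2) _)

/-- the elements of the two normalizers -/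
def lU (k : Fin 2) : Perm (Fin 9) :=
  match k with
  | 0 => swap 0 1 * swap 1 2
  | 1 => swap 4 5 * swap 5 6

def lV : Perm (Fin 9) := swap 0 2 * swap 2 4 * (swap 1 3 * swap 3 5)

theorem lU_norm (k : Fin 2) : lU k ∈ normalizer (U : Set (Perm (Fin 9))) := by
  have h : ∀ k : Fin 2, ∃ f : Bool × Bool × Bool × Bool → Bool × Bool × Bool × Bool, ∀ s, lU k * elU s = elU (f s) * lU k := by
    have h1 : ∀ (k : Fin 2) (s : Bool × Bool × Bool × Bool), ∃ t, lU k * elU s = elU t * lU k := by decide +kernel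
    intro k
    choose f hf using h1 k
    exact ⟨f, hf⟩
  obtain ⟨f, hf⟩ := h k
  exact mem_normalizer_range elU U_eq f hf

theorem lV_norm : lV ∈ normalizer (V : Set (Perm (Fin 9))) := by
  have h1 : ∀ s : Bool × Bool × Bool, ∃ t, lV * elV s = elV t * lV := by decide +kernel
  choose f hf using h1
  exact mem_normalizer_range elV V_eq f hf

theorem gen_normU (k : Fin 6) : gen k ∈ normalizer (U : Set (Perm (Fin 9))) := by
  have h1 : ∀ (k : Fin 6) (s : Bool × Bool × Bool × Bool), ∃ t, gen k * elU s = elU t * gen k := by decide +kernel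
  choose f hf using h1 k
  exact mem_normalizer_range elU U_eq f hf

theorem gen_normV (k : Fin 6) : gen k ∈ normalizer (V : Set (Perm (Fin 9))) := by
  have h1 : ∀ (k : Fin 6) (s : Bool × Bool × Bool), ∃ t, gen k * elV s = elV t * gen k := by decide +kernel
  choose f hf using h1 k
  exact mem_normalizer_range elV V_eq f hf

theorem P_normU : P ≤ normalizer (U : Set (Perm (Fin 9))) := by
  rw [P, closure_le]
  rintro _ ⟨k, rfl⟩
  exact gen_normU k

theorem P_normV : P ≤ normalizer (V : Set (Perm (Fin 9))) := by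
  rw [P, closure_le]
  rintro _ ⟨k, rfl⟩
  exact gen_normV k

theorem U_le : U ≤ P := by
  rw [U, closure_le]
  rintro _ ⟨k, rfl⟩
  exact gen_mem _

theorem V_le : V ≤ P := by
  rw [V, closure_le]
  rintro _ ⟨k, rfl⟩
  fin_cases k
  · exact gen_mem 0
  · exact gen_mem 2
  · exact gen_mem 4

/-- words in the elements of the two normalizers -/
def wd (k : Fin 2) : Perm (Fin 9) :=
  match k with
  | 0 => lV
  | 1 => lU 0 * lV * lU 0

theorem core : ∀ s : Ix, s ≠ (false, false, false, false, false, false) → ∃ k, ∀ t, wd k * el s ≠ el t * wd k := by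
  decide +kernel

theorem U_ne : U ≠ ⊥ := by
  intro h
  have h1 : genU 0 ∈ U := genU_mem 0
  rw [h, mem_bot] at h1
  exact absurd h1 (by decide +kernel)

theorem V_ne : V ≠ ⊥ := by
  intro h
  have h1 : genV 0 ∈ V := genV_mem 0
  rw [h, mem_bot] at h1
  exact absurd h1 (by decide +kernel)

/-- **`A₉`.** -/
theorem notUnique : NotUnique (alternatingGroup (Fin 9)) := by
  refine notUnique_of_core_sub (alternatingGroup (Fin 9)) P P_le ?_ (Set.range lU ∪ {lV}) ?_ ?_ ?_
  · rw [card_P, card_A, factorization_two (k := 6) (m := 2835) (by norm_num) (by norm_num) (by norm_num)]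
    norm_num
  · rintro _ (⟨k, rfl⟩ | rfl)
    · show lU k ∈ alternatingGroup (Fin 9)
      rw [Perm.mem_alternatingGroup]
      revert k
      decide +kernel
    · show lV ∈ alternatingGroup (Fin 9)
      rw [Perm.mem_alternatingGroup]
      decide +kernel
  · rintro _ (⟨k, rfl⟩ | rfl)
    · exact ⟨U, U_le, U_ne, P_normU, lU_norm k⟩
    · exact ⟨V, V_le, V_ne, P_normV, lV_norm⟩
  · intro u hu hu1
    have hu' : u ∈ Set.range el := P_eq ▸ hu
    obtain ⟨s, rfl⟩ := hu'
    have hs : s ≠ (false, false, false, false, false, false) := by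
      rintro rfl
      exact hu1 rfl
    obtain ⟨k, hk⟩ := core s hs
    refine ⟨wd k, ?_, fun h => ?_⟩
    · have h0 : lU 0 ∈ closure (Set.range lU ∪ {lV}) := subset_closure (Or.inl ⟨0, rfl⟩)
      have h1 : lV ∈ closure (Set.range lU ∪ {lV}) := subset_closure (Or.inr rfl)
      fin_cases k
      · exact h1
      · exact mul_mem (mul_mem h0 h1) h0
    · have h' : wd k * el s * (wd k)⁻¹ ∈ Set.range el := P_eq ▸ h
      obtain ⟨t, ht⟩ := h'
      exact hk t (by rw [ht, inv_mul_cancel_right])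

end Nine

/-! ### degree 6 -/

namespace Six

/-- generators of the Sylow 2-subgroup -/
def gen (k : Fin 3) : Perm (Fin 6) :=
  match k with
  | 0 => swap 0 1 * swap 2 3
  | 1 => swap 0 2 * swap 1 3
  | 2 => swap 0 1 * swap 4 5

abbrev Ix : Type := Bool × Bool × Bool

def pw (b : Bool) (g : Perm (Fin 6)) : Perm (Fin 6) := if b then g else 1

def el (s : Ix) : Perm (Fin 6) := pw s.1 (gen 0) * pw s.2.1 (gen 1) * pw s.2.2 (gen 2)

/-- left multiplication by the generators -/
def lm (k : Fin 3) (s : Ix) : Ix :=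
  match k with
  | 0 => (!s.1, s.2.1, s.2.2)
  | 1 => (s.1, !s.2.1, s.2.2)
  | 2 => (s.1 ^^ s.2.1, s.2.1, !s.2.2)

theorem lm_eq : ∀ k s, el (lm k s) = gen k * el s := by decide +kernel

theorem el_inj : Function.Injective el := by
  have : ∀ s t : Ix, el s = el t → s = t := by decide +kernel
  exact this

theorem gen_sq : ∀ k, gen k * gen k = 1 := by decide +kernel

theorem gen_even : ∀ k, gen k ∈ alternatingGroup (Fin 6) := by
  intro k
  rw [Perm.mem_alternatingGroup]
  revert k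
  decide +kernel

/-- the Sylow 2-subgroup -/
def P : Subgroup (Perm (Fin 6)) := closure (Set.range gen)

theorem pw_mem {P : Subgroup (Perm (Fin 6))} {g : Perm (Fin 6)} (hg : g ∈ P) (b : Bool) : pw b g ∈ P := by
  cases b
  · exact one_mem _
  · exact hg

theorem gen_mem (k : Fin 3) : gen k ∈ P := subset_closure ⟨k, rfl⟩

theorem el_mem (s : Ix) : el s ∈ P :=
  mul_mem (mul_mem (pw_mem (gen_mem 0) _) (pw_mem (gen_mem 1) _)) (pw_mem (gen_mem 2) _)

theorem P_eq : (P : Set (Perm (Fin 6))) = Set.range el :=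
  closure_eq_range el gen lm lm_eq gen_sq (false, false, false) rfl el_mem

theorem card_P : Nat.card P = 8 := by
  rw [card_of_range el el_inj P_eq]
  rfl

theorem P_le : P ≤ alternatingGroup (Fin 6) := by
  rw [P, closure_le]
  rintro _ ⟨k, rfl⟩
  exact gen_even k

theorem card_A : Nat.card (alternatingGroup (Fin 6)) = 360 := by
  have h := nat_card_alternatingGroup (α := Fin 6)
  rw [h, Nat.card_fin]
  decide +kernel

/-- the two four-groups -/
def genU (j k : Fin 2) : Perm (Fin 6) :=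
  match j, k with
  | _, 0 => swap 0 1 * swap 2 3
  | 0, 1 => swap 0 2 * swap 1 3
  | 1, 1 => swap 0 1 * swap 4 5

def elU (j : Fin 2) (s : Bool × Bool) : Perm (Fin 6) := pw s.1 (genU j 0) * pw s.2 (genU j 1)

def lmU (k : Fin 2) (s : Bool × Bool) : Bool × Bool :=
  match k with
  | 0 => (!s.1, s.2)
  | 1 => (s.1, !s.2)

def U (j : Fin 2) : Subgroup (Perm (Fin 6)) := closure (Set.range (genU j))

theorem genU_mem (j k : Fin 2) : genU j k ∈ U j := subset_closure ⟨k, rfl⟩

theorem U_eq (j : Fin 2) : (U j : Set (Perm (Fin 6))) = Set.range (elU j) := by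
  have h1 : ∀ j k s, elU j (lmU k s) = genU j k * elU j s := by decide +kernel
  have h2 : ∀ j k, genU j k * genU j k = 1 := by decide +kernel
  refine closure_eq_range (elU j) (genU j) lmU (h1 j) (h2 j) (false, false) rfl
    fun s => ?_
  exact mul_mem (pw_mem (genU_mem j 0) _) (pw_mem (genU_mem j 1) _)

/-- the elements of the two normalizers -/
def lU (k : Fin 2) : Perm (Fin 6) :=
  match k with
  | 0 => swap 0 1 * swap 1 2
  | 1 => swap 0 2 * swap 2 4 * (swap 1 3 * swap 3 5)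

theorem lU_norm (k : Fin 2) : lU k ∈ normalizer (U k : Set (Perm (Fin 6))) := by
  have h1 : ∀ (k : Fin 2) (s : Bool × Bool), ∃ t, lU k * elU k s = elU k t * lU k := by decide +kernel
  choose f hf using h1 k
  exact mem_normalizer_range (elU k) (U_eq k) f hf

theorem gen_norm (j : Fin 2) (k : Fin 3) : gen k ∈ normalizer (U j : Set (Perm (Fin 6))) := by
  have h1 : ∀ (j : Fin 2) (k : Fin 3) (s : Bool × Bool), ∃ t, gen k * elU j s = elU j t * gen k := by decide +kernel
  choose f hf using h1 j k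
  exact mem_normalizer_range (elU j) (U_eq j) f hf

theorem P_norm (j : Fin 2) : P ≤ normalizer (U j : Set (Perm (Fin 6))) := by
  rw [P, closure_le]
  rintro _ ⟨k, rfl⟩
  exact gen_norm j k

theorem U_le (j : Fin 2) : U j ≤ P := by
  rw [U, closure_le]
  rintro _ ⟨k, rfl⟩
  fin_cases j <;> fin_cases k
  · exact gen_mem 0
  · exact gen_mem 1
  · exact gen_mem 0
  · exact gen_mem 2

theorem U_ne (j : Fin 2) : U j ≠ ⊥ := by
  intro h
  have h1 : genU j 0 ∈ U j := genU_mem j 0
  rw [h, mem_bot] at h1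
  have h2 : ∀ j, genU j 0 ≠ 1 := by decide +kernel
  exact h2 j h1

/-- words in the elements of the two normalizers -/
def wd (k : Fin 3) : Perm (Fin 6) :=
  match k with
  | 0 => lU 0
  | 1 => lU 1
  | 2 => lU 0 * lU 1

theorem core : ∀ s : Ix, s ≠ (false, false, false) → ∃ k, ∀ t, wd k * el s ≠ el t * wd k := by
  decide +kernel

/-- **`A₆`.** -/
theorem notUnique : NotUnique (alternatingGroup (Fin 6)) := by
  refine notUnique_of_core_sub (alternatingGroup (Fin 6)) P P_le ?_ (Set.range lU) ?_ ?_ ?_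
  · rw [card_P, card_A, factorization_two (k := 3) (m := 45) (by norm_num) (by norm_num) (by norm_num)]
    norm_num
  · rintro _ ⟨k, rfl⟩
    show lU k ∈ alternatingGroup (Fin 6)
    rw [Perm.mem_alternatingGroup]
    revert k
    decide +kernel
  · rintro _ ⟨k, rfl⟩
    exact ⟨U k, U_le k, U_ne k, P_norm k, lU_norm k⟩
  · intro u hu hu1
    have hu' : u ∈ Set.range el := P_eq ▸ hu
    obtain ⟨s, rfl⟩ := hu'
    have hs : s ≠ (false, false, false) := by
      rintro rfl
      exact hu1 rfl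
    obtain ⟨k, hk⟩ := core s hs
    refine ⟨wd k, ?_, fun h => ?_⟩
    · have h0 : ∀ k, lU k ∈ closure (Set.range lU) := fun k => subset_closure ⟨k, rfl⟩
      fin_cases k
      · exact h0 0
      · exact h0 1
      · exact mul_mem (h0 0) (h0 1)
    · have h' : wd k * el s * (wd k)⁻¹ ∈ Set.range el := P_eq ▸ h
      obtain ⟨t, ht⟩ := h'
      exact hk t (by rw [ht, inv_mul_cancel_right])

end Six

end Cfsg.Agent.QTUnique

end

-- merged: Cfsg.Agent.QTUnique.LTwoSmall
section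

/-!
# S1819: `L₂(5)`, `L₂(7)`, `L₂(9)` (helper12)
-/

set_option autoImplicit false

namespace Cfsg.Agent.QTUnique.LTwoSmall

open Subgroup Cfsg
open Cfsg.Agent.QTKE (PSL)

/-- `L₂(9)`. -/
theorem l29 (F : Type) [Field F] [Fintype F] (h : Fintype.card F = 9) : NotUnique (PSL 2 F) := by
  obtain ⟨e⟩ := Cfsg.Agent.S0254.result (F := F) h
  exact Six.notUnique.congr e.symm

/-- `L₂(5)`. -/
theorem five {G : Type*} [Group G] (F : Type) [Field F] [Fintype F] (h : Fintype.card F = 5)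
    (hG : Nonempty (G ≃* PSL 2 F)) : IsBenderGroup G := by
  obtain ⟨e⟩ := hG
  obtain ⟨f⟩ := Cfsg.Agent.S0253.result (F := F) h
  have h4 : Nat.card (GaloisField 2 2) = 4 := by
    rw [GaloisField.card 2 2 (by norm_num)]
    norm_num
  letI : Fintype (GaloisField 2 2) := Fintype.ofFinite _
  have h5 : Fintype.card (GaloisField 2 2) = 4 := by rw [← Nat.card_eq_fintype_card, h4]
  obtain ⟨g⟩ := Cfsg.Agent.S0252.result (F := GaloisField 2 2) h5
  exact Or.inl ⟨GaloisField 2 2, inferInstance, inferInstance, inferInstance, h5.ge, ⟨(e.trans f).trans g.symm⟩⟩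

/-- A normal subgroup of odd index of the symmetric group contains all transpositions. -/
theorem eq_top_of_odd {n : ℕ} {K : Subgroup (Equiv.Perm (Fin n))} (hK : K.Normal) (hi : Odd K.index) : K = ⊤ := by
  rw [eq_top_iff, ← Equiv.Perm.closure_isSwap, closure_le]
  intro s hs
  have h1 : (QuotientGroup.mk' K s) ^ 2 = 1 := by
    rw [← map_pow]
    obtain ⟨i, j, -, rfl⟩ := hs
    rw [pow_two, Equiv.swap_mul_self, map_one]
  have h2 : (QuotientGroup.mk' K s) ^ K.index = 1 := by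
    have : Finite (Equiv.Perm (Fin n) ⧸ K) := inferInstance
    rw [index_eq_card]
    exact pow_card_eq_one'
  have h3 : (QuotientGroup.mk' K s) ^ (Nat.gcd 2 K.index) = 1 := pow_gcd_eq_one.2 ⟨h1, h2⟩
  have h4 : Nat.gcd 2 K.index = 1 := (Nat.coprime_two_left.2 hi)
  rw [h4, pow_one] at h3
  exact (QuotientGroup.eq_one_iff s).1 h3

/-- `L₂(7)`. -/
theorem simple168 {G : Type*} [Group G] [Finite G] [IsSimpleGroup G] (hna : ¬ IsMulCommutative G)
    (hG : Nat.card G = 168) : NotUnique G := by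
  have h2 : Fact (Nat.Prime 2) := ⟨Nat.prime_two⟩
  intro T M hM
  obtain ⟨h1, hconj, hnorm⟩ := Cfsg.Agent.S1007.result hG T
  -- the two four-groups
  obtain ⟨⟨U, hU, hU4⟩, ⟨W, hW, hW4⟩, hne, hall⟩ :=
    (Nat.card_eq_two_iff (α := {U : Subgroup G // U ≤ (T : Subgroup G) ∧ IsKleinFour ↥U})).1 h1
  have hne' : U ≠ W := fun h => hne (Subtype.ext h)
  have hall' : ∀ K : Subgroup G, K ≤ (T : Subgroup G) → IsKleinFour ↥K → K = U ∨ K = W := by
    intro K hK hK4
    have h3 : (⟨K, hK, hK4⟩ : {U : Subgroup G // U ≤ (T : Subgroup G) ∧ IsKleinFour ↥U}) ∈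
        (Set.univ : Set {U : Subgroup G // U ≤ (T : Subgroup G) ∧ IsKleinFour ↥U}) := trivial
    rw [← hall] at h3
    rcases h3 with h3 | h3
    · exact Or.inl (congrArg Subtype.val h3)
    · exact Or.inr (congrArg Subtype.val h3)
  have hcardT : Nat.card T = 8 := by
    rw [Sylow.card_eq_multiplicity, hG]
    rw [factorization_two (a := 168) (k := 3) (m := 21) (by norm_num) (by norm_num) (by norm_num)]
    norm_num
  -- `T` normalizes both
  have hTn : ∀ K : Subgroup G, K ≤ (T : Subgroup G) → IsKleinFour ↥K →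
      (∀ L : Subgroup G, L ≤ (T : Subgroup G) → IsKleinFour ↥L → L ≠ K → ∀ g : G, K.map (MulAut.conj g).toMonoidHom ≠ L) →
      (T : Subgroup G) ≤ normalizer (K : Set G) := by
    intro K hK hK4 hc t ht
    have h3 : K.map (MulAut.conj t).toMonoidHom ≤ (T : Subgroup G) := by
      rintro _ ⟨x, hx, rfl⟩
      exact mul_mem (mul_mem ht (hK hx)) (inv_mem ht)
    have h4 : IsKleinFour ↥(K.map (MulAut.conj t).toMonoidHom) := by
      have e := K.equivMapOfInjective (MulAut.conj t).toMonoidHom (MulAut.conj t).injective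
      exact ⟨by rw [← Nat.card_congr e.toEquiv]; exact hK4.card_four, by
        rw [← Monoid.exponent_eq_of_mulEquiv e]; exact hK4.exponent_two⟩
    have h5 : K.map (MulAut.conj t).toMonoidHom = K := by
      by_contra h6
      exact hc _ h3 h4 h6 t rfl
    rw [mem_normalizer_iff]
    intro x
    constructor
    · intro hx
      have : t * x * t⁻¹ ∈ K.map (MulAut.conj t).toMonoidHom := ⟨x, hx, rfl⟩
      rwa [h5] at this
    · intro hx
      rw [← h5] at hx
      obtain ⟨y, hy, hyx⟩ := hx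
      have h6 : t * y * t⁻¹ = t * x * t⁻¹ := hyx
      have h7 : y = x := by
        have := congrArg (fun s => t⁻¹ * s * t) h6
        simpa [mul_assoc] using this
      rwa [← h7]
  have hTU : (T : Subgroup G) ≤ normalizer (U : Set G) := hTn U hU hU4 fun L hL hL4 hLU g =>
    hconj U L hU hL hU4 hL4 (Ne.symm hLU) g
  have hTW : (T : Subgroup G) ≤ normalizer (W : Set G) := hTn W hW hW4 fun L hL hL4 hLU g =>
    hconj W L hW hL hW4 hL4 (Ne.symm hLU) g
  have hUne : U ≠ ⊥ := by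
    rintro rfl
    have := hU4.card_four
    simp at this
  have hWne : W ≠ ⊥ := by
    rintro rfl
    have := hW4.card_four
    simp at this
  have hUM := normalizer_le hM (T.isPGroup'.to_le hU) hUne hTU
  have hWM := normalizer_le hM (T.isPGroup'.to_le hW) hWne hTW
  have hcU : Nat.card (normalizer (U : Set G)) = 24 := by
    obtain ⟨e⟩ := hnorm U hU4
    rw [Nat.card_congr e.toEquiv, Nat.card_eq_fintype_card, Fintype.card_perm, Fintype.card_fin]
    decide
  have hcW : Nat.card (normalizer (W : Set G)) = 24 := by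
    obtain ⟨e⟩ := hnorm W hW4
    rw [Nat.card_congr e.toEquiv, Nat.card_eq_fintype_card, Fintype.card_perm, Fintype.card_fin]
    decide
  have hcM : Nat.card M = 24 := by
    have h3 : Nat.card M ∣ 168 := hG ▸ card_subgroup_dvd_card M
    have h4 : 24 ∣ Nat.card M := hcU ▸ card_dvd_of_le hUM
    have h5 : Nat.card M ≠ 168 := by
      intro h6
      exact twoLocal_ne_top hna (unique_mem hM).1.1 ((card_eq_iff_eq_top M).1 (h6.trans hG.symm))
    obtain ⟨k, hk⟩ := h4
    obtain ⟨l, hl⟩ := h3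
    rw [hk] at hl h5
    have h6 : k * l = 7 := by
      have : 24 * (k * l) = 24 * 7 := by rw [← mul_assoc, ← hl]
      exact Nat.eq_of_mul_eq_mul_left (by norm_num) this
    have h7 : k ∣ 7 := ⟨l, h6.symm⟩
    rcases (Nat.dvd_prime (by norm_num)).1 h7 with rfl | rfl
    · rw [hk]
    · exact absurd rfl h5
  have hMU : M = normalizer (U : Set G) := (eq_of_le_of_card_ge hUM (by rw [hcM, hcU])).symm
  have hMW : M = normalizer (W : Set G) := (eq_of_le_of_card_ge hWM (by rw [hcM, hcW])).symm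
  -- `T = U ⊔ W`
  have hT : (T : Subgroup G) = U ⊔ W := by
    have h3 : U ⊔ W ≤ (T : Subgroup G) := sup_le hU hW
    refine (eq_of_le_of_card_ge h3 ?_).symm
    have h4 : Nat.card U = 4 := hU4.card_four
    have h5 : U < U ⊔ W := by
      refine lt_of_le_of_ne le_sup_left fun h6 => ?_
      have h7 : W ≤ U := h6 ▸ le_sup_right
      exact hne' (eq_of_le_of_card_ge h7 (by rw [hU4.card_four, hW4.card_four])).symm
    have h6 : Nat.card U ∣ Nat.card ↥(U ⊔ W) := card_dvd_of_le h5.le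
    have h7 : Nat.card ↥(U ⊔ W) ∣ Nat.card T := card_dvd_of_le h3
    have h8 : Nat.card U < Nat.card ↥(U ⊔ W) := by
      have : Nat.card U ≤ Nat.card ↥(U ⊔ W) := Nat.le_of_dvd Nat.card_pos h6
      refine lt_of_le_of_ne this fun h9 => ?_
      exact h5.ne (eq_of_le_of_card_ge h5.le h9.ge)
    rw [hcardT] at h7 ⊢
    rw [h4] at h6 h8
    obtain ⟨a, ha⟩ := h6
    obtain ⟨b, hb⟩ := h7
    rw [ha] at hb h8 ⊢
    have : 2 ≤ a := by omega
    omega
  -- `T` is normal in `N(U) ≅ S₄`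
  have hnT : normalizer (U : Set G) ≤ normalizer ((T : Subgroup G) : Set G) := by
    rw [hT]
    refine le_trans (le_inf le_rfl ?_) (?_ : normalizer (U : Set G) ⊓ normalizer (W : Set G) ≤ _)
    · rw [← hMU, ← hMW]
    · rintro g ⟨hg1, hg2⟩
      have key : ∀ g : G, g ∈ normalizer (U : Set G) → g ∈ normalizer (W : Set G) →
          (U ⊔ W).map (MulAut.conj g).toMonoidHom ≤ U ⊔ W := by
        intro g hg1 hg2
        rw [Subgroup.map_sup]
        refine sup_le ?_ ?_
        · rintro _ ⟨x, hx, rfl⟩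
          exact (le_sup_left : U ≤ U ⊔ W) ((mem_normalizer_iff.1 hg1 x).1 hx)
        · rintro _ ⟨x, hx, rfl⟩
          exact (le_sup_right : W ≤ U ⊔ W) ((mem_normalizer_iff.1 hg2 x).1 hx)
      rw [mem_normalizer_iff]
      intro x
      constructor
      · intro hx
        exact key g hg1 hg2 ⟨x, hx, rfl⟩
      · intro hx
        have := key g⁻¹ (inv_mem hg1) (inv_mem hg2) ⟨_, hx, rfl⟩
        have h3 : (MulAut.conj g⁻¹).toMonoidHom (g * x * g⁻¹) = x := by
          show g⁻¹ * (g * x * g⁻¹) * g⁻¹⁻¹ = x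
          group
        rwa [h3] at this
  obtain ⟨e⟩ := hnorm U hU4
  set K : Subgroup (Equiv.Perm (Fin 4)) := ((T : Subgroup G).subgroupOf (normalizer (U : Set G))).map e.toMonoidHom with hK
  have hn1 : ((T : Subgroup G).subgroupOf (normalizer (U : Set G))).Normal := normal_subgroupOf_of_le_normalizer hnT
  have hKn : K.Normal := hn1.map _ e.surjective
  have hKc : Nat.card K = 8 := by
    rw [hK, card_map_of_injective e.injective, Nat.card_congr (subgroupOfEquivOfLe hTU).toEquiv, hcardT]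
  have hPc : Nat.card (Equiv.Perm (Fin 4)) = 24 := by
    rw [Nat.card_eq_fintype_card, Fintype.card_perm, Fintype.card_fin]
    decide
  have hKi : K.index = 3 := by
    have h3 := K.card_mul_index
    rw [hKc, hPc] at h3
    omega
  have hKt := eq_top_of_odd hKn (by rw [hKi]; decide)
  rw [hKt, card_top, hPc] at hKc
  omega

theorem l27 (F : Type) [Field F] [Fintype F] (h : Fintype.card F = 7) (hf : Finite (PSL 2 F))
    (hs : IsSimpleGroup (PSL 2 F)) (hna : ¬ IsMulCommutative (PSL 2 F)) : NotUnique (PSL 2 F) := by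
  refine simple168 hna ?_
  have h2 : (2 : F) ≠ 0 := by
    intro h0
    have h3 : CharP F 7 := by
      have hp : Fact (Nat.Prime 7) := ⟨by norm_num⟩
      exact charP_of_card_eq_prime h
    have h4 : ((2 : ℕ) : F) = 0 := by exact_mod_cast h0
    rw [CharP.cast_eq_zero_iff F 7] at h4
    omega
  have h3 := Cfsg.Agent.LieClassical.SmallIso.card_psl_two F h2
  rw [h] at h3
  have h4 : 7 * (7 ^ 2 - 1) = 2 * 168 := by norm_num
  rw [h4] at h3
  exact Nat.eq_of_mul_eq_mul_left (by norm_num) h3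

end Cfsg.Agent.QTUnique.LTwoSmall

end

-- merged: Cfsg.Agent.QTUnique.Inst
section

/-!
# S1819: the inputs (helper12)

* `nuRows` : the rows `NotUnique`;
* `inputs_of` : the quoted theorems, from S1765.
-/

set_option autoImplicit false

namespace Cfsg.Agent.QTUnique

open Subgroup Cfsg
open Cfsg.Agent.QTKE (PSL)
open scoped commutatorElement

universe u

theorem nuRows : NURows.{u} where
  l27 := fun F _ _ h hf hs hna => LTwoSmall.l27 F h hf hs hna
  l29 := fun F _ _ h => LTwoSmall.l29 F h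
  a9 := Nine.notUnique
  l43 := fun F _ _ h => LFourThree.notUnique h
  m12 := fun _ _ _ _ _ h => MTwelve.notUnique h
  j2 := fun _ _ _ _ hna h => JTwo.notUnique hna h
  hs := fun _ _ _ _ _ h => HS.notUnique h
  he := fun _ _ _ _ _ h => He.notUnique h
  ru := fun _ _ _ _ _ h => Ru.notUnique h

theorem exists_ne_of_not_comm {G : Type*} [Group G] (hG : ¬ IsMulCommutative G) : ∃ a b : G, a * b ≠ b * a := by
  by_contra hcon
  push Not at hcon
  exact hG ⟨⟨hcon⟩⟩

theorem charP_two {F : Type*} [Field F] [Fintype F] {n : ℕ} (hF : Fintype.card F = 2 ^ n) :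
    CharP F 2 := by
  obtain ⟨p, hp⟩ := CharP.exists F
  have hp' : p.Prime := (CharP.char_is_prime_or_zero F p).resolve_right
    (fun h0 => by subst h0; exact CharP.char_ne_zero_of_finite F 0 rfl)
  obtain ⟨k, hk1, hk2⟩ := FiniteField.card F p
  have h2 : p = 2 := by
    have h1 : p ∣ 2 ^ n := by
      rw [← hF, hk2]
      exact dvd_pow_self p k.pos.ne'
    exact (Nat.prime_dvd_prime_iff_eq hp' Nat.prime_two).mp (hp'.dvd_of_dvd_pow h1)
  rwa [h2] at hp

/-- Bender's theorem. -/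
theorem bender_of_emb {G : Type*} [Group G] [Finite G] [IsSimpleGroup G] (hG : ¬ IsMulCommutative G) {H : Subgroup G}
    (hH : IsStronglyEmbedded H) : IsBenderGroup G := by
  rcases StrongEmb.Strong.result (exists_ne_of_not_comm hG) H hH with ⟨F, i, j, ⟨n, hn, hF⟩, e⟩ | h |
    ⟨F, i, j, n, hn, hF, e⟩
  · refine Or.inl ⟨F, i, j, charP_two hF, ?_, e⟩
    rw [hF]
    calc 4 = 2 ^ 2 := by norm_num
      _ ≤ 2 ^ n := Nat.pow_le_pow_right (by norm_num) hn
  · exact Or.inr (Or.inr h)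
  · exact Or.inr (Or.inl ⟨F, i, j, n, hn, hF, e⟩)

/-- Groups with dihedral Sylow 2-subgroups. -/
theorem dihedral {G : Type*} [Group G] [Finite G] [IsSimpleGroup G] (hG : ¬ IsMulCommutative G) (S : Sylow 2 G) (n : ℕ)
    (hn : 2 ≤ n) (hS : Nonempty ((S : Subgroup G) ≃* DihedralGroup n)) :
    (∃ (F : Type) (_ : Field F) (_ : Fintype F), Odd (Fintype.card F) ∧ 3 < Fintype.card F ∧
        Nonempty (G ≃* Matrix.ProjectiveSpecialLinearGroup (Fin 2) F)) ∨ Nonempty (G ≃* alternatingGroup (Fin 7)) := by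
  have hnc := exists_ne_of_not_comm hG
  have hperf : Group.IsPerfect G := by
    rw [Group.isPerfect_def]
    have hn : (commutator G).Normal := inferInstance
    rcases hn.eq_bot_or_eq_top with h | h
    · exfalso
      obtain ⟨a, b, hab⟩ := hnc
      have h3 : ⁅a, b⁆ ∈ commutator G := commutator_mem_commutator (mem_top a) (mem_top b)
      rw [h, mem_bot, commutatorElement_eq_one_iff_mul_comm] at h3
      exact hab h3
    · exact h
  have heven : Even (Nat.card G) := by
    obtain ⟨e⟩ := hS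
    have h1 : Nat.card S = 2 * n := by
      rw [Nat.card_congr e.toEquiv, DihedralGroup.nat_card]
    have h2 : Nat.card S ∣ Nat.card G := card_subgroup_dvd_card _
    rw [h1] at h2
    exact (even_iff_two_dvd).2 ((Dvd.intro n rfl).trans h2)
  have hodd : oddCore G = ⊥ := by
    have hn : (oddCore G).Normal := Lib.Cores.pPrimeCore_normal 2
    rcases hn.eq_bot_or_eq_top with h | h
    · exact h
    · exfalso
      have h3 : (Nat.card (oddCore G)).Coprime 2 := Lib.Cores.pPrimeCore_coprime 2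
      rw [h, Subgroup.card_top] at h3
      have h4 := Nat.Coprime.eq_one_of_dvd h3.symm (even_iff_two_dvd.1 heven)
      omega
  have hn0 : (oddCore G).Normal := Lib.Cores.pPrimeCore_normal 2
  have e0 : (G ⧸ oddCore G) ≃* G := (QuotientGroup.quotientMulEquivOfEq hodd).trans QuotientGroup.quotientBot
  rcases Cfsg.Agent.S0483.result S n hn hS with ⟨F, i1, i2, hF, hF3, ⟨e⟩⟩ | ⟨⟨e⟩⟩
  · exact Or.inl ⟨F, i1, i2, hF, hF3, ⟨e0.symm.trans e⟩⟩
  · exact Or.inr ⟨e0.symm.trans e⟩

theorem inputs_of (h : St1765.{u}) : Inputs.{u} where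
  s1765 := h
  uniq := by
    intro G _ _ _ hna hc S M hM
    rcases SmallRank.charTwo_unique hna hc S M hM with h | ⟨S1, -, h⟩
    · exact Or.inl h
    · exact Or.inr ⟨S1, h⟩
  emb := fun G _ _ _ hna H hH => bender_of_emb hna hH
  dihedral := fun G _ _ _ hna S n hn hS => dihedral hna S n hn hS
  quasi := by
    intro G _ _ _ S hS
    rcases Cfsg.Agent.S0507.result S hS with h | h | h
    · exact Or.inl h
    · exact Or.inr (Or.inl h)
    · exact Or.inr (Or.inr (TwoGenCore.IsoMEleven.isoM11 h))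
  five := fun G _ F _ _ h hG => LTwoSmall.five F h hG

end Cfsg.Agent.QTUnique

end
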